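import Mathlib
import Groth.Prelude.Def_MoreMor

/-!
Topological properties of morphisms are insensitive to thickenings.
-/

set_option autoImplicit false
set_option backward.isDefEq.respectTransparency false
set_option backward.isDefEq.respectTransparency.types false

universe u

namespace Groth.Agent.Mor.ThickeningTop

open AlgebraicGeometry CategoryTheory CategoryTheory.Limits

variable {X X' S S' : Scheme.{u}} (iX : X ⟶ X') (iS : S ⟶ S') (f : X ⟶ S) (f' : X' ⟶ S')

theorem quasiCompact_of_comp_surjective {Y Z : Scheme.{u}} (p : X ⟶ Y) (g : Y ⟶ Z) [Surjective p]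
    [QuasiCompact (p ≫ g)] : QuasiCompact g := by
  refine ⟨fun U hU hUc => ?_⟩
  have h2 := (QuasiCompact.isCompact_preimage (f := p ≫ g) U hU hUc).image p.continuous
  rw [show (p ≫ g) ⁻¹' U = p ⁻¹' (g ⁻¹' U) from rfl, Set.image_preimage_eq _ p.surjective] at h2
  exact h2

/-- from the thickening to the subscheme -/
theorem of_thickened {P : MorphismProperty Scheme.{u}} [P.IsStableUnderBaseChange]
    [P.IsStableUnderComposition] (hcl : ∀ {A B : Scheme.{u}} (i : A ⟶ B), IsClosedImmersion i → P i)
    (hX : MoreMor.IsThickening iX) (hS : MoreMor.IsThickening iS) (w : iX ≫ f' = f ≫ iS)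
    (h : P f') : P f := by
  haveI := hS.1
  have h2 : P (f ≫ iS) := w ▸ P.comp_mem _ _ (hcl _ hX.1) h
  exact MorphismProperty.of_isPullback (IsPullback.of_horiz_isIso_mono (fst := 𝟙 X) (snd := f)
    (f := f ≫ iS) (g := iS) ⟨by simp⟩) h2

theorem surjective_map {A B C : Scheme.{u}} (g : A ⟶ C) (p : B ⟶ A) [Surjective p] :
    Surjective (pullback.map (p ≫ g) (p ≫ g) g g p p (𝟙 C) (by simp) (by simp)) :=
  MorphismProperty.pullback_map (P := @Surjective.{u}) (i₁ := p) (i₂ := p) (by assumption)
    (by assumption) (by simp) (by simp)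

theorem diagonal_comp_map {A B C : Scheme.{u}} (g : A ⟶ C) (p : B ⟶ A) :
    p ≫ pullback.diagonal g = pullback.diagonal (p ≫ g) ≫
      pullback.map (p ≫ g) (p ≫ g) g g p p (𝟙 C) (by simp) (by simp) := by
  apply pullback.hom_ext
  · simp only [Category.assoc, pullback.map, pullback.diagonal_fst]
    erw [pullback.lift_fst, pullback.diagonal_fst_assoc]
    simp
  · simp only [Category.assoc, pullback.map, pullback.diagonal_snd]
    erw [pullback.lift_snd, pullback.diagonal_snd_assoc]
    simp

theorem quasiSeparated_of_comp {A B C : Scheme.{u}} (g : A ⟶ C) (p : B ⟶ A) [Surjective p]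
    [QuasiCompact p] [QuasiSeparated (p ≫ g)] : QuasiSeparated g := by
  haveI : QuasiCompact (pullback.map (p ≫ g) (p ≫ g) g g p p (𝟙 C) (by simp) (by simp)) :=
    MorphismProperty.pullback_map (P := @QuasiCompact.{u}) (i₁ := p) (i₂ := p) (by assumption)
      (by assumption) (by simp) (by simp)
  haveI : QuasiCompact (p ≫ pullback.diagonal g) := by rw [diagonal_comp_map]; infer_instance
  exact ⟨quasiCompact_of_comp_surjective p _⟩

theorem universallyInjective_of_comp {A B C : Scheme.{u}} (g : A ⟶ C) (p : B ⟶ A) [Surjective p]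
    [UniversallyInjective (p ≫ g)] : UniversallyInjective g := by
  rw [UniversallyInjective.iff_diagonal]
  haveI : Surjective (pullback.diagonal (p ≫ g)) :=
    (UniversallyInjective.iff_diagonal _).mp inferInstance
  haveI := surjective_map g p
  haveI : Surjective (p ≫ pullback.diagonal g) := by rw [diagonal_comp_map]; infer_instance
  exact Surjective.of_comp p _

theorem universallyOpen_of_comp {A B C : Scheme.{u}} (g : A ⟶ C) (p : B ⟶ A) [hp : Surjective p]
    [h : UniversallyOpen (p ≫ g)] : UniversallyOpen g := by
  refine ⟨fun A' C' i j g' hsq => ?_⟩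
  have h1 : IsPullback (pullback.fst p i) (pullback.snd p i ≫ g') (p ≫ g) j :=
    (IsPullback.of_hasPullback p i).paste_vert hsq.flip
  have h2 : IsOpenMap (pullback.snd p i ≫ g') := h.universally_isOpenMap _ _ _ h1.flip
  haveI : Surjective (pullback.snd p i) := MorphismProperty.pullback_snd (P := @Surjective.{u}) _ _ hp
  intro W hW
  have h3 := h2 _ (hW.preimage (pullback.snd p i).continuous)
  rw [show (pullback.snd p i ≫ g') '' ((pullback.snd p i) ⁻¹' W) =
      g' '' ((pullback.snd p i) '' ((pullback.snd p i) ⁻¹' W)) from Set.image_comp g' _ _,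
    Set.image_preimage_eq _ (pullback.snd p i).surjective] at h3
  exact h3

theorem quasiCompact_iff (hX : MoreMor.IsThickening iX) (hS : MoreMor.IsThickening iS)
    (w : iX ≫ f' = f ≫ iS) : QuasiCompact f ↔ QuasiCompact f' := by
  refine ⟨fun h => ?_, fun h => of_thickened (P := @QuasiCompact.{u}) iX iS f f'
    (fun i hi => by haveI := hi; infer_instance) hX hS w h⟩
  haveI := hX.2; haveI := hS.1
  haveI : QuasiCompact (iX ≫ f') := by rw [w]; infer_instance
  exact quasiCompact_of_comp_surjective iX f'

theorem universallyClosed_iff (hX : MoreMor.IsThickening iX) (hS : MoreMor.IsThickening iS)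
    (w : iX ≫ f' = f ≫ iS) : UniversallyClosed f ↔ UniversallyClosed f' := by
  refine ⟨fun h => ?_, fun h => of_thickened (P := @UniversallyClosed) iX iS f f'
    (fun i hi => by haveI := hi; infer_instance) hX hS w h⟩
  haveI := hX.2; haveI := hS.1
  haveI : UniversallyClosed (iX ≫ f') := by rw [w]; infer_instance
  exact UniversallyClosed.of_comp_surjective iX f'

theorem quasiSeparated_iff (hX : MoreMor.IsThickening iX) (hS : MoreMor.IsThickening iS)
    (w : iX ≫ f' = f ≫ iS) : QuasiSeparated f ↔ QuasiSeparated f' := by
  refine ⟨fun h => ?_, fun h => of_thickened (P := @QuasiSeparated) iX iS f f'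
    (fun i hi => by haveI := hi; infer_instance) hX hS w h⟩
  haveI := hX.1; haveI := hX.2; haveI := hS.1
  haveI : QuasiSeparated (iX ≫ f') := by rw [w]; infer_instance
  exact quasiSeparated_of_comp f' iX

theorem universallyInjective_iff (hX : MoreMor.IsThickening iX) (hS : MoreMor.IsThickening iS)
    (w : iX ≫ f' = f ≫ iS) : UniversallyInjective f ↔ UniversallyInjective f' := by
  refine ⟨fun h => ?_, fun h => of_thickened (P := @UniversallyInjective) iX iS f f'
    (fun i hi => by haveI := hi; infer_instance) hX hS w h⟩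
  haveI := hX.2; haveI := hS.1
  haveI : UniversallyInjective (iX ≫ f') := by
    rw [w]; exact MorphismProperty.comp_mem _ _ _ h inferInstance
  exact universallyInjective_of_comp f' iX

theorem universallyOpen_iff (hX : MoreMor.IsThickening iX) (hS : MoreMor.IsThickening iS)
    (w : iX ≫ f' = f ≫ iS) : UniversallyOpen f ↔ UniversallyOpen f' := by
  have key : ∀ {A B : Scheme.{u}} (i : A ⟶ B), MoreMor.IsThickening i → UniversallyOpen i := by
    intro A B i hi
    refine ⟨fun A' B' a b i' hsq => ?_⟩
    haveI : IsClosedImmersion i' := MorphismProperty.of_isPullback hsq.flip hi.1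
    haveI : Surjective i' := MorphismProperty.of_isPullback hsq.flip hi.2
    exact (i'.isClosedEmbedding.isEmbedding.toHomeomorphOfSurjective i'.surjective).isOpenMap
  constructor
  · intro h
    haveI := hX.2
    haveI := key iS hS
    haveI : UniversallyOpen (iX ≫ f') := by rw [w]; infer_instance
    exact universallyOpen_of_comp f' iX
  · intro h
    haveI := hS.1
    haveI := key iX hX
    haveI : UniversallyOpen (f ≫ iS) := by rw [← w]; infer_instance
    exact MorphismProperty.of_isPullback (P := @UniversallyOpen) (IsPullback.of_horiz_isIso_mono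
      (fst := 𝟙 X) (snd := f) (f := f ≫ iS) (g := iS) ⟨by simp⟩) inferInstance

end Groth.Agent.Mor.ThickeningTop
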