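import Mathlib.AlgebraicGeometry.Morphisms.UniversallyOpen
import Mathlib.AlgebraicGeometry.Morphisms.UniversallyClosed
import Mathlib.AlgebraicGeometry.Morphisms.ClosedImmersion
import Mathlib.AlgebraicGeometry.Limits
import Mathlib.AlgebraicGeometry.PullbackCarrier
import Mathlib.Topology.KrullDimension
import Mathlib.Topology.Sober

/-! Open maps of schemes are generalizing; universally open over a discrete base; chain lifting. -/

open CategoryTheory CategoryTheory.Limits AlgebraicGeometry TopologicalSpace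

universe u v w

namespace Groth.Agent.Mor.OpenGen

theorem generalizingMap_comap_of_isOpenMap {A B : Type u} [CommRing A] [CommRing B] (φ : A →+* B) (h : IsOpenMap (PrimeSpectrum.comap φ)) : GeneralizingMap (PrimeSpectrum.comap φ) := by
  intro P q' hq
  rw [← PrimeSpectrum.le_iff_specializes] at hq
  let M : Submonoid B := P.asIdeal.primeCompl ⊔ (q'.asIdeal.primeCompl.map φ)
  have hdis : Disjoint ((q'.asIdeal.map φ : Ideal B) : Set B) M := by
    rw [Set.disjoint_left]
    intro z hz hzM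
    obtain ⟨s, hs, _, ⟨a, ha, rfl⟩, rfl⟩ := Submonoid.mem_sup.mp hzM
    obtain ⟨Q, hQs, hQ⟩ : q' ∈ PrimeSpectrum.comap φ '' PrimeSpectrum.basicOpen s :=
      ((PrimeSpectrum.le_iff_specializes q' _).mp hq).mem_open (h _ (PrimeSpectrum.basicOpen s).isOpen) ⟨P, hs, rfl⟩
    have hle : q'.asIdeal.map φ ≤ Q.asIdeal := Ideal.map_le_iff_le_comap.mpr (by rw [← hQ]; rfl)
    rcases Q.2.mem_or_mem (hle hz) with h' | h'
    · exact hQs h'
    · exact ha (by rw [← hQ]; exact h')
  obtain ⟨P', hP', hle, hdis'⟩ := Ideal.exists_le_prime_disjoint _ M hdis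
  rw [Set.disjoint_left] at hdis'
  refine ⟨⟨P', hP'⟩, (PrimeSpectrum.le_iff_specializes _ P).mp (fun z hz => ?_), ?_⟩
  · by_contra hzP
    exact hdis' hz ((le_sup_left : P.asIdeal.primeCompl ≤ M) hzP)
  · refine PrimeSpectrum.ext (le_antisymm (fun a ha => ?_) (Ideal.map_le_iff_le_comap.mp hle))
    by_contra haq
    exact hdis' ha ((le_sup_right : q'.asIdeal.primeCompl.map φ ≤ M) ⟨a, haq, rfl⟩)

theorem generalizingMap_of_isOpenMap {X Y : Scheme.{u}} (f : X ⟶ Y) (hf : IsOpenMap f.base) : GeneralizingMap f.base := by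
  intro x y' hy
  obtain ⟨_, ⟨V, hV, rfl⟩, hxV, -⟩ := Y.isBasis_affineOpens.exists_subset_of_mem_open (Set.mem_univ (f x)) isOpen_univ
  obtain ⟨_, ⟨U, hU, rfl⟩, hxU, hUV⟩ := X.isBasis_affineOpens.exists_subset_of_mem_open (show x ∈ (f ⁻¹ᵁ V).1 from hxV) (f ⁻¹ᵁ V).2
  have hoV := hV.isOpenImmersion_fromSpec
  have hoU := hU.isOpenImmersion_fromSpec
  have hcomm := hV.SpecMap_appLE_fromSpec f hU hUV
  set φ := (f.appLE V U hUV).hom
  have hc : ∀ Q, f (hU.fromSpec Q) = hV.fromSpec (PrimeSpectrum.comap φ Q) := fun Q => by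
    rw [← Scheme.Hom.comp_apply, ← hcomm]; rfl
  have hop : IsOpenMap (PrimeSpectrum.comap φ) := by
    intro W hW
    have h1 := hf _ (hU.fromSpec.isOpenEmbedding.isOpenMap W hW)
    have h2 : hV.fromSpec '' (PrimeSpectrum.comap φ '' W) = f '' (hU.fromSpec '' W) := by
      ext z; constructor
      · rintro ⟨_, ⟨Q, hQ, rfl⟩, rfl⟩; exact ⟨_, ⟨Q, hQ, rfl⟩, hc Q⟩
      · rintro ⟨_, ⟨Q, hQ, rfl⟩, rfl⟩; exact ⟨_, ⟨Q, hQ, rfl⟩, (hc Q).symm⟩
    exact (hV.fromSpec.isOpenEmbedding.isOpen_iff_image_isOpen).mpr (h2.symm ▸ h1)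
  obtain ⟨P, rfl⟩ := hU.range_fromSpec.ge hxU
  obtain ⟨q', rfl⟩ := hV.range_fromSpec.ge (hy.mem_open V.2 hxV)
  have : q' ⤳ PrimeSpectrum.comap φ P := by
    exact hV.fromSpec.isOpenEmbedding.isInducing.specializes_iff.mp ((hc P) ▸ hy)
  obtain ⟨P', hP', hP'q⟩ := generalizingMap_comap_of_isOpenMap φ hop this
  exact ⟨hU.fromSpec P', hP'.map hU.fromSpec.continuous, (hc P').trans (congrArg hV.fromSpec hP'q)⟩

theorem universallyOpen_of_subsingleton {X' Y' : Scheme.{u}} [Subsingleton Y'] [IsAffine Y'] (g : X' ⟶ Y') : UniversallyOpen g := by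
  rcases isEmpty_or_nonempty Y' with hne | hne
  · have : IsEmpty X' := Function.isEmpty g
    infer_instance
  let R := Γ(Y', ⊤)
  have hsubR : Subsingleton (PrimeSpectrum R) := Y'.isoSpec.inv.homeomorph.subsingleton
  obtain ⟨p⟩ : Nonempty (PrimeSpectrum R) := hne.map Y'.isoSpec.hom
  have hnil : nilradical R = p.asIdeal := by
    refine le_antisymm (nilradical_le_prime _) fun x hx => ?_
    rw [nilradical_eq_sInf, Submodule.mem_sInf]
    intro q hq
    exact (congrArg PrimeSpectrum.asIdeal (hsubR.elim p ⟨q, hq⟩)).le hx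
  have : IsDomain (R ⧸ nilradical R) := by rw [hnil]; infer_instance
  have hjc : IsClosedImmersion (Spec.map (CommRingCat.ofHom (Ideal.Quotient.mk (nilradical R)))) :=
    IsClosedImmersion.spec_of_surjective _ Ideal.Quotient.mk_surjective
  let j : Spec (CommRingCat.of (R ⧸ nilradical R)) ⟶ Y' := Spec.map (CommRingCat.ofHom (Ideal.Quotient.mk _)) ≫ Y'.isoSpec.inv
  have : IsClosedImmersion j := inferInstance
  have : Subsingleton (Spec (CommRingCat.of (R ⧸ nilradical R))) :=
    (PrimeSpectrum.comap_injective_of_surjective _ Ideal.Quotient.mk_surjective).subsingleton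
  have hsj : Surjective j := ⟨fun y => ⟨(Classical.arbitrary (PrimeSpectrum (R ⧸ nilradical R))), Subsingleton.elim (α := Y') _ _⟩⟩
  have hjo : UniversallyOpen j := ⟨MorphismProperty.universally_mk' _ _ fun {T} g _ => by
    have : Surjective (pullback.fst g j) := inferInstance
    exact ((pullback.fst g j).isClosedEmbedding.isEmbedding.toHomeomorphOfSurjective (pullback.fst g j).surjective).isOpenMap⟩
  have h1 : UniversallyOpen (pullback.fst g j ≫ g) := by rw [pullback.condition]; infer_instance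
  refine ⟨MorphismProperty.universally_mk' _ _ fun {T} k _ => ?_⟩
  let m := pullback.fst (pullback.snd k g) (pullback.fst g j)
  have hm : Surjective m := inferInstance
  let r := (pullbackLeftPullbackSndIso k g (pullback.fst g j)).hom ≫ pullback.fst k (pullback.fst g j ≫ g)
  have : UniversallyOpen r := inferInstance
  have e : m ≫ pullback.fst k g = r := by simp [m, r]
  intro W hW
  have : (pullback.fst k g) '' W = r '' (m ⁻¹' W) := by
    rw [← e]; ext t; constructor
    · rintro ⟨w, hw, rfl⟩; obtain ⟨v, rfl⟩ := hm.surj w; exact ⟨v, hw, rfl⟩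
    · rintro ⟨v, hv, rfl⟩; exact ⟨m v, hv, rfl⟩
  exact this ▸ r.isOpenMap _ (hW.preimage m.continuous)

theorem universallyOpen_of_discreteTopology {X Y : Scheme.{u}} (f : X ⟶ Y) [DiscreteTopology Y] : UniversallyOpen f := by
  let O : Y → Y.Opens := fun y => ⟨{y}, isOpen_discrete _⟩
  rw [IsZariskiLocalAtTarget.iff_of_iSup_eq_top (P := @UniversallyOpen) O
    (eq_top_iff.mpr fun y _ => Opens.mem_iSup.mpr ⟨y, rfl⟩)]
  intro y
  have : Subsingleton (O y).toScheme := ⟨fun a b => Subtype.ext (a.2.trans b.2.symm)⟩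
  have : IsAffine (O y).toScheme := IsAffineOpen.of_subsingleton Set.subsingleton_singleton
  exact universallyOpen_of_subsingleton _

theorem topologicalKrullDim_le_of_generalizingMap {X R : Type u} [TopologicalSpace X] [TopologicalSpace R] [T0Space R] [QuasiSober R] {g : X → R} (hg : Continuous g) (hs : Function.Surjective g) (hgen : GeneralizingMap g) : topologicalKrullDim R ≤ topologicalKrullDim X := by
  suffices key : ∀ (n : ℕ) (Z : Fin (n + 1) → IrreducibleCloseds R), StrictMono Z → ∀ x : X, IsGenericPoint (g x) (Z 0 : Set R) → ∃ W : Fin (n + 1) → X, W 0 = x ∧ ∀ i : Fin n, W i.succ ⤳ W i.castSucc ∧ g (W i.succ) ≠ g (W i.castSucc) by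
    refine iSup_le fun s => ?_
    obtain ⟨r, hr⟩ := QuasiSober.sober (s.toFun 0).isIrreducible (s.toFun 0).isClosed
    obtain ⟨x, rfl⟩ := hs r
    obtain ⟨W, -, hW⟩ := key s.length s.toFun s.strictMono x hr
    refine Order.LTSeries.length_le_krullDim (p := ⟨s.length, fun i => ⟨closure {W i}, isIrreducible_singleton.closure, isClosed_closure⟩, fun i => ?_⟩)
    refine lt_of_le_not_ge (specializes_iff_closure_subset.mp (hW i).1) fun h => (hW i).2 ?_
    exact (((hW i).1.map hg).antisymm ((specializes_iff_closure_subset.mpr h).map hg)).eq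
  intro n
  induction n with
  | zero => exact fun Z _ x _ => ⟨fun _ => x, rfl, fun i => i.elim0⟩
  | succ n ih =>
    intro Z hZ x hx
    obtain ⟨r, hr⟩ := QuasiSober.sober (Z 1).isIrreducible (Z 1).isClosed
    have hlt : Z 0 < Z 1 := hZ (Fin.zero_lt_one)
    have hrx : r ⤳ g x := hr.specializes (hlt.le hx.mem)
    obtain ⟨x', hx', hgx'⟩ := hgen hrx
    obtain ⟨W, hW0, hW⟩ := ih (Z ∘ Fin.succ) (hZ.comp Fin.strictMono_succ) x' (hgx' ▸ hr)
    refine ⟨Fin.cons x W, rfl, Fin.cases ?_ fun i => ?_⟩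
    · simp only [Fin.cons_succ, Fin.castSucc_zero, Fin.cons_zero, hW0]
      refine ⟨hx', fun h => hlt.ne (IrreducibleCloseds.ext ?_)⟩
      rw [← hx.def, ← hr.def, ← hgx', h]
    · simpa [Fin.castSucc_succ] using hW i

theorem topologicalKrullDim_range_le {X Y : Scheme.{u}} (f : X ⟶ Y) (hf : IsOpenMap f.base) : topologicalKrullDim ↥(Set.range f.base) ≤ topologicalKrullDim ↥X := by
  have hopen : IsOpen (Set.range f.base) := hf.isOpen_range
  have : QuasiSober (Set.range f.base) := hopen.isOpenEmbedding_subtypeVal.quasiSober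
  refine topologicalKrullDim_le_of_generalizingMap (g := Set.rangeFactorization f.base) (f.continuous.subtype_mk _) Set.rangeFactorization_surjective ?_
  intro x y hy
  obtain ⟨x', h1, h2⟩ := generalizingMap_of_isOpenMap f hf (hy.map continuous_subtype_val)
  exact ⟨x', h1, Subtype.ext h2⟩

end Groth.Agent.Mor.OpenGen
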